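import Cfsg.Agent.H415.TU.Def

/-!
# Modules in the defining characteristic of a finite group with a split BN-pair of rank two (S3635, task (O2))

`eig`, `mu`, `nn`, `neg` : the statements of `Cfsg.Agent.H415.TU.RDat`.
-/

set_option autoImplicit false

namespace Cfsg.Agent.H815.TU

open Finset Cfsg.Agent.H415.TU

section gen

variable {Y k V : Type*} [Group Y] [Field k] [AddCommGroup V] [Module k V] (ρ : Y →* Module.End k V)

theorem rho_mul (g h : Y) (v : V) : ρ (g * h) v = ρ g (ρ h v) := by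
  rw [map_mul]; rfl

theorem rho_one (v : V) : ρ 1 v = v := by
  rw [map_one]; rfl

/-- a `p`-group has a nonzero fixed vector, characteristic `p` -/
theorem exists_fixed [Finite Y] {p : ℕ} [Fact p.Prime] [CharP k p] {A : Subgroup Y} (hA : IsPGroup p A) [Nontrivial V] :
    ∃ v : V, v ≠ 0 ∧ ∀ a ∈ A, ρ a v = v := by
  classical
  obtain ⟨v₀, hv0⟩ := exists_ne (0 : V)
  -- the additive group generated by the orbit
  let S : AddSubgroup V := AddSubgroup.closure (Set.range fun a : A => ρ (a : Y) v₀)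
  have hS : ∀ a ∈ A, ∀ v ∈ S, ρ a v ∈ S := by
    intro a ha v hv
    induction hv using AddSubgroup.closure_induction with
    | mem x hx =>
      obtain ⟨b, rfl⟩ := hx
      change ρ a (ρ (b : Y) v₀) ∈ S
      rw [← rho_mul]
      exact AddSubgroup.subset_closure ⟨⟨a, ha⟩ * b, rfl⟩
    | zero => rw [map_zero]; exact zero_mem _
    | add x y _ _ hx hy => rw [map_add]; exact add_mem hx hy
    | neg x _ hx => rw [map_neg]; exact neg_mem hx
  have hfin : Finite S := by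
    have hp : ∀ x : V, p • x = 0 := by
      intro x
      rw [← Nat.cast_smul_eq_nsmul k, CharP.cast_eq_zero, zero_smul]
    let _ : Module (ZMod p) V := AddCommGroup.zmodModule (n := p) hp
    have h1 : (S : Set V) ⊆ (Submodule.span (ZMod p) (Set.range fun a : A => ρ (a : Y) v₀) : Set V) := by
      have : S ≤ (Submodule.span (ZMod p) (Set.range fun a : A => ρ (a : Y) v₀)).toAddSubgroup := by
        rw [AddSubgroup.closure_le]
        exact Submodule.subset_span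
      exact this
    have h2 : Module.Finite (ZMod p)
        (Submodule.span (ZMod p) (Set.range fun a : A => ρ (a : Y) v₀)) :=
      Module.Finite.span_of_finite _ (Set.finite_range _)
    have h3 : Finite (Submodule.span (ZMod p) (Set.range fun a : A => ρ (a : Y) v₀)) :=
      Module.finite_of_finite (ZMod p)
    exact Set.Finite.subset (Set.toFinite _) h1
  let _ : MulAction A S :=
    { smul := fun a v => ⟨ρ (a : Y) v, hS a a.2 v v.2⟩
      one_smul := fun v => Subtype.ext (rho_one ρ _)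
      mul_smul := fun a b v => Subtype.ext (rho_mul ρ _ _ _) }
  have hcard : p ∣ Nat.card S := by
    have h1 : (⟨ρ ((1 : A) : Y) v₀, AddSubgroup.subset_closure ⟨1, rfl⟩⟩ : S) ≠ 0 := by
      intro h
      have h2 : ρ ((1 : A) : Y) v₀ = 0 := congrArg Subtype.val h
      rw [Subgroup.coe_one, rho_one] at h2
      exact hv0 h2
    have h2 : addOrderOf (⟨ρ ((1 : A) : Y) v₀, AddSubgroup.subset_closure ⟨1, rfl⟩⟩ : S) = p := by
      apply addOrderOf_eq_prime _ h1
      apply Subtype.ext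
      change p • (ρ ((1 : A) : Y) v₀) = 0
      rw [← Nat.cast_smul_eq_nsmul k, CharP.cast_eq_zero, zero_smul]
    rw [← h2]
    exact addOrderOf_dvd_natCard _
  have hmod := hA.card_modEq_card_fixedPoints (α := S)
  have hdvd : p ∣ Nat.card (MulAction.fixedPoints A S) :=
    (Nat.modEq_zero_iff_dvd.1 ((hmod.symm.trans (Nat.modEq_zero_iff_dvd.2 hcard))))
  have h0 : (0 : S) ∈ MulAction.fixedPoints A S := by
    intro a
    exact Subtype.ext (map_zero _)
  have h1 : 1 < Nat.card (MulAction.fixedPoints A S) := by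
    have : 0 < Nat.card (MulAction.fixedPoints A S) :=
      Nat.card_pos_iff.2 ⟨⟨⟨0, h0⟩⟩, inferInstance⟩
    exact lt_of_lt_of_le (Fact.out : p.Prime).one_lt (Nat.le_of_dvd this hdvd)
  rw [Finite.one_lt_card_iff_nontrivial] at h1
  obtain ⟨⟨w, hw⟩, hne⟩ := exists_ne (⟨0, h0⟩ : MulAction.fixedPoints A S)
  refine ⟨w, ?_, ?_⟩
  · intro h
    apply hne
    apply Subtype.ext
    exact Subtype.ext h
  · intro a ha
    have := hw ⟨a, ha⟩
    exact congrArg Subtype.val this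

/-- a commuting family has a common eigenvector -/
theorem exists_eigen [IsAlgClosed k] [FiniteDimensional k V] {T : Subgroup Y}
    (hT : ∀ s ∈ T, ∀ t ∈ T, s * t = t * s) (N : Submodule k V)
    (hN : ∀ t ∈ T, ∀ v ∈ N, ρ t v ∈ N) (hN0 : N ≠ ⊥) :
    ∃ v ∈ N, v ≠ 0 ∧ ∃ χ : Y → k, ∀ t ∈ T, ρ t v = χ t • v := by
  classical
  -- a minimal nonzero T-stable subspace
  obtain ⟨L, ⟨hLN, hL0, hL⟩, hmin⟩ := (wellFounded_lt (α := Submodule k V)).has_min
    {L : Submodule k V | L ≤ N ∧ L ≠ ⊥ ∧ ∀ t ∈ T, ∀ v ∈ L, ρ t v ∈ L} ⟨N, le_rfl, hN0, hN⟩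
  have key : ∀ t ∈ T, ∃ c : k, ∀ v ∈ L, ρ t v = c • v := by
    intro t ht
    have : Nontrivial L := (Submodule.nontrivial_iff_ne_bot).2 hL0
    let f : Module.End k L := (ρ t).restrict (hL t ht)
    obtain ⟨c, hc⟩ := Module.End.exists_eigenvalue f
    let L' : Submodule k V := (Module.End.eigenspace f c).map L.subtype
    have hL'1 : L' ≤ L := by
      rintro _ ⟨x, -, rfl⟩
      exact x.2
    have hmem : ∀ v, v ∈ L' ↔ v ∈ L ∧ ρ t v = c • v := by
      intro v
      constructor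
      · rintro ⟨x, hx, rfl⟩
        refine ⟨x.2, ?_⟩
        have := Module.End.mem_eigenspace_iff.1 hx
        exact congrArg Subtype.val this
      · rintro ⟨hv, he⟩
        exact ⟨⟨v, hv⟩, Module.End.mem_eigenspace_iff.2 (Subtype.ext he), rfl⟩
    have hL'0 : L' ≠ ⊥ := by
      obtain ⟨x, hx⟩ := hc.exists_hasEigenvector
      intro h
      have h1 : (x : V) ∈ L' := ⟨x, hx.1, rfl⟩
      rw [h, Submodule.mem_bot] at h1
      exact hx.2 (Subtype.ext h1)
    have hL'2 : ∀ s ∈ T, ∀ v ∈ L', ρ s v ∈ L' := by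
      intro s hs v hv
      rw [hmem] at hv ⊢
      refine ⟨hL s hs v hv.1, ?_⟩
      rw [← rho_mul, hT t ht s hs, rho_mul, hv.2, map_smul]
    have : L' = L := by
      by_contra hne
      exact hmin L' ⟨hL'1.trans hLN, hL'0, hL'2⟩ (lt_of_le_of_ne hL'1 hne)
    refine ⟨c, fun v hv => ?_⟩
    rw [← this, hmem] at hv
    exact hv.2
  choose! c hc using key
  obtain ⟨v, hv, hv0⟩ := (Submodule.ne_bot_iff L).1 hL0
  exact ⟨v, hLN hv, hv0, c, fun t ht => hc t ht v hv⟩

end gen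

section

variable {S : Type*} [Group S] [Finite S] (R : RDat S) {k W : Type*} [Field k] [AddCommGroup W] [Module k W]

/-- fixed by `Up` and an eigenvector of `H` -/
structure Good (ρ : S →* Module.End k W) (χ : S → k) (v : W) : Prop where
  fix : ∀ u ∈ R.Up, ρ u v = v
  tor : ∀ h ∈ R.H, ρ h v = χ h • v

variable {R} {ρ : S →* Module.End k W} {χ : S → k} {v : W}

theorem top_apply (i : Fin 2) (v : W) : R.Top ρ i v = ∑ u ∈ R.Xs i, ρ (u * R.n i) v := by
  rw [RDat.Top, LinearMap.sum_apply]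

omit [Finite S] in
theorem n_H' (R : RDat S) (i : Fin 2) {h : S} (hh : h ∈ R.H) : (R.n i)⁻¹ * h * R.n i ∈ R.H := by
  have h1 := R.H.mul_mem (R.H.mul_mem (R.H.inv_mem (R.n_sq i)) hh) (R.n_sq i)
  have h2 := R.n_H i _ h1
  have e : R.n i * ((R.n i * R.n i)⁻¹ * h * (R.n i * R.n i)) * (R.n i)⁻¹ = (R.n i)⁻¹ * h * R.n i := by group
  rwa [e] at h2

/-- reindexing -/
theorem sum_left {M : Type*} [AddCommMonoid M] (i : Fin 2) {x : S} (hx : x ∈ R.X i) (f : S → M) :
    ∑ u ∈ R.Xs i, f (x * u) = ∑ u ∈ R.Xs i, f u := by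
  refine Finset.sum_bij (fun u _ => x * u) ?_ ?_ ?_ ?_
  · intro u hu
    rw [R.mem_Xs] at hu ⊢
    exact (R.X i).mul_mem hx hu
  · intro u _ u' _ h
    exact mul_left_cancel h
  · intro u hu
    rw [R.mem_Xs] at hu
    exact ⟨x⁻¹ * u, R.mem_Xs.2 ((R.X i).mul_mem ((R.X i).inv_mem hx) hu), by rw [mul_inv_cancel_left]⟩
  · intro u _
    rfl

theorem sum_right {M : Type*} [AddCommMonoid M] (i : Fin 2) {x : S} (hx : x ∈ R.X i) (f : S → M) :
    ∑ u ∈ R.Xs i, f (u * x) = ∑ u ∈ R.Xs i, f u := by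
  refine Finset.sum_bij (fun u _ => u * x) ?_ ?_ ?_ ?_
  · intro u hu
    rw [R.mem_Xs] at hu ⊢
    exact (R.X i).mul_mem hu hx
  · intro u _ u' _ h
    exact mul_right_cancel h
  · intro u hu
    rw [R.mem_Xs] at hu
    exact ⟨u * x⁻¹, R.mem_Xs.2 ((R.X i).mul_mem hu ((R.X i).inv_mem hx)), by rw [inv_mul_cancel_right]⟩
  · intro u _
    rfl

theorem sum_conj {M : Type*} [AddCommMonoid M] (i : Fin 2) {h : S} (hh : h ∈ R.H) (f : S → M) :
    ∑ u ∈ R.Xs i, f (h * u * h⁻¹) = ∑ u ∈ R.Xs i, f u := by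
  refine Finset.sum_bij (fun u _ => h * u * h⁻¹) ?_ ?_ ?_ ?_
  · intro u hu
    rw [R.mem_Xs] at hu ⊢
    exact R.H_X i h hh u hu
  · intro u _ u' _ h
    exact mul_left_cancel (mul_right_cancel h)
  · intro u hu
    rw [R.mem_Xs] at hu
    refine ⟨h⁻¹ * u * h⁻¹⁻¹, R.mem_Xs.2 (R.H_X i _ (R.H.inv_mem hh) u hu), by group⟩
  · intro u _
    rfl

/-- (1) -/
theorem top_good (hv : Good R ρ χ v) (i : Fin 2) : Good R ρ (fun h => χ ((R.n i)⁻¹ * h * R.n i)) (R.Top ρ i v) := by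
  constructor
  · intro g hg
    obtain ⟨x, hx, w, hw, rfl⟩ := R.fac_p i g hg
    rw [top_apply, map_sum]
    have h1 : ∀ u ∈ R.Xs i, ρ (x * w) (ρ (u * R.n i) v) = ρ (x * u * R.n i) v := by
      intro u hu
      have e : x * w * (u * R.n i) = x * u * R.n i * ((R.n i)⁻¹ * (u⁻¹ * w * u) * R.n i) := by group
      rw [← rho_mul, e, rho_mul, hv.fix _ (R.Vp_le i (R.n_Vp i _ (R.X_Vp i u (R.mem_Xs.1 hu) w hw)))]
    rw [Finset.sum_congr rfl h1]
    exact sum_left i hx fun u => ρ (u * R.n i) v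
  · intro h hh
    rw [top_apply, map_sum, Finset.smul_sum]
    have h1 : ∀ u ∈ R.Xs i, ρ h (ρ (u * R.n i) v) =
        χ ((R.n i)⁻¹ * h * R.n i) • ρ (h * u * h⁻¹ * R.n i) v := by
      intro u hu
      have e : h * (u * R.n i) = h * u * h⁻¹ * R.n i * ((R.n i)⁻¹ * h * R.n i) := by group
      rw [← rho_mul, e, rho_mul, hv.tor _ (n_H' R i hh), map_smul]
    rw [Finset.sum_congr rfl h1]
    exact sum_conj i hh fun u => χ ((R.n i)⁻¹ * h * R.n i) • ρ (u * R.n i) v

theorem Xs_eq (i : Fin 2) : ∃ h : (1 : S) ∉ R.Xs1 i, R.Xs i = (R.Xs1 i).cons 1 h := by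
  have h : (1 : S) ∉ R.Xs1 i := by
    rw [R.mem_Xs1]
    exact fun h => h.2 rfl
  refine ⟨h, ?_⟩
  ext u
  rw [Finset.mem_cons, R.mem_Xs, R.mem_Xs1]
  constructor
  · intro hu
    by_cases h1 : u = 1
    · exact Or.inl h1
    · exact Or.inr ⟨hu, h1⟩
  · rintro (rfl | hu)
    · exact (R.X i).one_mem
    · exact hu.1

theorem card_Xs {p : ℕ} [Fact p.Prime] [CharP k p] {i : Fin 2} (hX : R.X i ≠ ⊥) (hp : IsPGroup p R.Up) :
    ((R.Xs i).card : k) = 0 := by
  have h1 : (R.Xs i).card = Nat.card (R.X i) := by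
    have h2 : Nat.card (R.X i) = (R.X i : Set S).ncard := rfl
    rw [h2, Set.ncard_eq_toFinset_card (R.X i : Set S) (Set.toFinite _)]
    rfl
  have hP : IsPGroup p (R.X i) := hp.to_le (R.X_le i)
  obtain ⟨m, hm⟩ := IsPGroup.iff_card.1 hP
  have hm0 : m ≠ 0 := by
    rintro rfl
    rw [pow_zero] at hm
    exact hX (Subgroup.card_eq_one.1 hm)
  rw [h1, CharP.cast_eq_zero_iff k p, hm]
  exact dvd_pow_self p hm0

/-- (2) -/
theorem top_top {p : ℕ} [Fact p.Prime] [CharP k p] (hv : Good R ρ χ v) {i : Fin 2} (hX : R.X i ≠ ⊥)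
    (hp : IsPGroup p R.Up) :
    R.Top ρ i (R.Top ρ i v) = (∑ u ∈ R.Xs1 i, χ (R.hh i u)) • R.Top ρ i v := by
  have h1 : R.Top ρ i (R.Top ρ i v) = ∑ u ∈ R.Xs i, R.Top ρ i (ρ (u * R.n i) v) := by
    conv_lhs => rw [top_apply (v := v)]
    rw [map_sum]
  obtain ⟨hn, hXs⟩ := Xs_eq (R := R) i
  rw [h1, hXs, Finset.sum_cons, Finset.sum_smul]
  have h2 : R.Top ρ i (ρ (1 * R.n i) v) = 0 := by
    rw [top_apply]
    have h3 : ∀ u ∈ R.Xs i, ρ (u * R.n i) (ρ (1 * R.n i) v) = χ (R.n i * R.n i) • v := by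
      intro u hu
      rw [← rho_mul, one_mul, mul_assoc, rho_mul, hv.tor _ (R.n_sq i), map_smul,
        hv.fix _ (R.X_le i (R.mem_Xs.1 hu))]
    rw [Finset.sum_congr rfl h3, Finset.sum_const, ← Nat.cast_smul_eq_nsmul k, card_Xs (k := k) hX hp, zero_smul]
  rw [h2, zero_add]
  refine Finset.sum_congr rfl fun u hu => ?_
  rw [R.mem_Xs1] at hu
  rw [top_apply, top_apply, Finset.smul_sum]
  have h3 : ∀ u' ∈ R.Xs i, ρ (u' * R.n i) (ρ (u * R.n i) v) =
      χ (R.hh i u) • ρ (u' * (R.n i * R.yy i u * (R.n i)⁻¹) * R.n i) v := by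
    intro u' _
    have e : u' * R.n i * (u * R.n i) =
        u' * (R.n i * R.yy i u * (R.n i)⁻¹) * R.n i * (R.hh i u * R.xx i u) := by
      rw [R.rel i u hu.1 hu.2]; group
    rw [← rho_mul, e, rho_mul, rho_mul _ (R.hh i u), hv.fix _ (R.X_le i (R.xx_mem i u hu.1 hu.2)),
      hv.tor _ (R.hh_mem i u hu.1 hu.2), map_smul]
  rw [Finset.sum_congr rfl h3]
  exact sum_right i (R.n_Y i _ (R.yy_mem i u hu.1 hu.2)) fun u' => χ (R.hh i u) • ρ (u' * R.n i) v

/-- (5) -/
theorem nn (R : RDat S) : R.NN k W := by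
  intro ρ χ μ v hv i
  obtain ⟨hn, hXs⟩ := Xs_eq (R := R) i
  have h1 := hv.eig i
  rw [top_apply, hXs, Finset.sum_cons, one_mul] at h1
  rw [← h1, eq_sub_iff_add_eq, add_right_inj]
  refine Finset.sum_congr rfl fun u hu => ?_
  rw [R.mem_Xs1] at hu
  rw [R.rel i u hu.1 hu.2, rho_mul, rho_mul, hv.fix _ (R.X_le i (R.xx_mem i u hu.1 hu.2)),
    hv.tor _ (R.hh_mem i u hu.1 hu.2), map_smul]

/-- (4) -/
theorem mu (R : RDat S) {p : ℕ} [Fact p.Prime] [CharP k p] : R.Mu k W p := by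
  intro ρ χ μ v hv0 hX hp hv i hi
  have hG : Good R ρ χ v := ⟨hv.fix, hv.tor⟩
  constructor
  · have h1 := top_top hG (hX i) hp
    rw [hv.eig i, map_smul, hv.eig i, smul_smul, smul_smul] at h1
    have h2 := smul_left_injective k hv0 h1
    exact mul_right_cancel₀ hi h2
  · intro h hh
    have h1 := (top_good hG i).tor _ (R.n_H i h hh)
    rw [hv.eig i, map_smul, hv.tor _ (R.n_H i h hh), smul_smul, smul_smul] at h1
    have h2 := smul_left_injective k hv0 h1
    have h3 : μ i * χ (R.n i * h * (R.n i)⁻¹) = χ h * μ i := by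
      have e : (R.n i)⁻¹ * (R.n i * h * (R.n i)⁻¹) * R.n i = h := by group
      simpa only [e] using h2
    rw [mul_comm] at h3
    exact mul_right_cancel₀ hi h3

/-- (6) -/
theorem neg (R : RDat S) : R.Neg k W := by
  intro ρ w hX hH hn g
  set M : Submodule k W := Submodule.span k {x | ∃ u ∈ R.Um, x = ρ u w} with hM
  have hspan : ∀ g : S, (∀ u ∈ R.Um, ρ g (ρ u w) ∈ M) → ∀ x ∈ M, ρ g x ∈ M := by
    intro g hg x hx
    have h1 : M ≤ M.comap (ρ g) := by
      rw [hM, Submodule.span_le]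
      rintro _ ⟨u, hu, rfl⟩
      exact hg u hu
    exact h1 hx
  have hUm : ∀ a ∈ R.Um, ∀ x ∈ M, ρ a x ∈ M := by
    intro a ha
    refine hspan a fun u hu => ?_
    rw [← rho_mul]
    exact Submodule.subset_span ⟨a * u, R.Um.mul_mem ha hu, rfl⟩
  have hHM : ∀ a ∈ R.H, ∀ x ∈ M, ρ a x ∈ M := by
    intro a ha
    refine hspan a fun u hu => ?_
    obtain ⟨c, hc⟩ := hH a ha
    have e : a * u = a * u * a⁻¹ * a := by group
    rw [← rho_mul, e, rho_mul, hc, map_smul]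
    exact M.smul_mem _ (Submodule.subset_span ⟨_, R.H_Um a ha u hu, rfl⟩)
  have hnM : ∀ i, ∀ x ∈ M, ρ (R.n i) x ∈ M := by
    intro i
    refine hspan _ fun u hu => ?_
    obtain ⟨v, hv, y, hy, rfl⟩ := R.fac_m i u hu
    have e : R.n i * (v * y) = R.n i * v * (R.n i)⁻¹ * (R.n i * y) := by group
    rw [← rho_mul, e, rho_mul]
    refine hUm _ (R.n_Vm i v hv) _ ?_
    by_cases hy1 : y = 1
    · rw [hy1, mul_one]
      refine Submodule.span_mono ?_ (hn i)
      rintro _ ⟨z, hz, rfl⟩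
      exact ⟨z, R.Y_le i hz, rfl⟩
    · have hu1 : R.n i * y * (R.n i)⁻¹ ≠ 1 := by
        intro h
        apply hy1
        have := congrArg (fun t => (R.n i)⁻¹ * t * R.n i) h
        simpa [mul_assoc] using this
      have huX := R.n_Y i y hy
      have e2 : R.n i * y = R.n i * y * (R.n i)⁻¹ * R.n i := by group
      rw [e2, R.rel i _ huX hu1, rho_mul, rho_mul, hX i _ (R.xx_mem i _ huX hu1)]
      obtain ⟨c, hc⟩ := hH _ (R.hh_mem i _ huX hu1)
      rw [hc, map_smul]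
      exact M.smul_mem _ (Submodule.subset_span ⟨_, R.Y_le i (R.yy_mem i _ huX hu1), rfl⟩)
  have key : ∀ g : S, ∀ x ∈ M, ρ g x ∈ M := by
    intro g
    have hg : g ∈ (Subgroup.closure ((R.Um : Set S) ∪ (R.H : Set S) ∪ Set.range R.n)).toSubmonoid := by
      rw [R.gen]; trivial
    rw [Subgroup.closure_toSubmonoid_of_finite] at hg
    induction hg using Submonoid.closure_induction with
    | mem a ha =>
      rcases ha with (ha | ha) | ⟨i, rfl⟩
      · exact hUm a ha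
      · exact hHM a ha
      · exact hnM i
    | one => intro x hx; rwa [rho_one]
    | mul a b _ _ ha hb => intro x hx; rw [rho_mul]; exact ha _ (hb x hx)
  exact key g w (Submodule.subset_span ⟨1, R.Um.one_mem, (rho_one ρ w).symm⟩)

/-- the vectors that are eigenvectors of both operators -/
def Sim (R : RDat S) (ρ : S →* Module.End k W) : Prop :=
  ∃ (v : W) (χ : S → k) (μ : Fin 2 → k), v ≠ 0 ∧ R.IsEig ρ χ μ v

theorem sim_of {i : Fin 2} (hv0 : v ≠ 0) (hv : Good R ρ χ v) {a b : k} (ha : R.Top ρ i v = a • v)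
    (hb : R.Top ρ (1 - i) v = b • v) : Sim R ρ := by
  refine ⟨v, χ, fun j => if j = i then a else b, hv0, hv.fix, hv.tor, fun j => ?_⟩
  by_cases h : j = i
  · subst h
    rw [if_pos rfl, ha]
  · have h1 : j = 1 - i := by omega
    rw [if_neg h, h1, hb]

/-- alternating application -/
noncomputable def ch (R : RDat S) (ρ : S →* Module.End k W) : ℕ → Fin 2 → W → W
  | 0, _, v => v
  | n + 1, i, v => ch R ρ n (1 - i) (R.Top ρ i v)

theorem sim_of_ch {p : ℕ} [Fact p.Prime] [CharP k p] (hX : ∀ i, R.X i ≠ ⊥) (hp : IsPGroup p R.Up) :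
    ∀ (n : ℕ) (i : Fin 2) (χ : S → k) (v : W) (a : k), v ≠ 0 → Good R ρ χ v → R.Top ρ (1 - i) v = a • v →
      ch R ρ n i v = 0 → Sim R ρ := by
  intro n
  induction n with
  | zero => intro i χ v a hv0 _ _ h; exact absurd h hv0
  | succ n ih =>
    intro i χ v a hv0 hv ha h
    by_cases h1 : R.Top ρ i v = 0
    · exact sim_of (i := i) hv0 hv (a := 0) (by rw [h1, zero_smul]) ha
    · refine ih (1 - i) _ (R.Top ρ i v) (∑ u ∈ R.Xs1 i, χ (R.hh i u)) h1 (top_good hv i) ?_ h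
      rw [sub_sub_cancel]
      exact top_top hv (hX i) hp

/-- (3) -/
theorem eig (R : RDat S) [IsAlgClosed k] {p : ℕ} [Fact p.Prime] [CharP k p] : R.Eig k W p := by
  intro ρ hfd hnt hX hp hB
  -- a vector fixed by `Up` and an eigenvector of `H`
  obtain ⟨w, χ, hw0, hw⟩ : ∃ (w : W) (χ : S → k), w ≠ 0 ∧ Good R ρ χ w := by
    obtain ⟨v₀, hv0, hfix⟩ := exists_fixed ρ hp (V := W)
    let N : Submodule k W :=
      { carrier := {v | ∀ u ∈ R.Up, ρ u v = v}
        add_mem' := fun {a b} ha hb u hu => by rw [map_add, ha u hu, hb u hu]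
        zero_mem' := fun u _ => map_zero _
        smul_mem' := fun c v hv u hu => by rw [map_smul, hv u hu] }
    have hN : ∀ t ∈ R.H, ∀ v ∈ N, ρ t v ∈ N := by
      intro t ht v hv u hu
      have h1 := R.H_Up _ (R.H.inv_mem ht) u hu
      have e : u * t = t * (t⁻¹ * u * t⁻¹⁻¹) := by group
      rw [← rho_mul, e, rho_mul, hv _ h1]
    obtain ⟨w, hw, hw0, χ, hχ⟩ := exists_eigen ρ R.H_comm N hN (by
      intro h
      have h1 : v₀ ∈ N := hfix
      rw [h, Submodule.mem_bot] at h1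
      exact hv0 h1)
    exact ⟨w, χ, hw0, hw, hχ⟩
  change Sim R ρ
  by_cases h01 : R.Top ρ 0 w = 0 ∧ R.Top ρ 1 w = 0
  · exact sim_of (i := 0) hw0 hw (a := 0) (b := 0) (by rw [h01.1, zero_smul])
      (by rw [sub_zero, h01.2, zero_smul])
  -- the value of the long alternating product
  have hch : ∀ i, ch R ρ 8 i w = RDat.alt (R.Top ρ (1 - i)) (R.Top ρ i) 8 w := by
    intro i
    simp [ch, RDat.alt]
  by_cases h8 : RDat.alt (R.Top ρ 0) (R.Top ρ 1) 8 w = 0
  · have h8' : ∀ i, ch R ρ 8 i w = 0 := by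
      intro i
      rw [hch]
      fin_cases i
      · show RDat.alt (R.Top ρ 1) (R.Top ρ 0) 8 w = 0
        rw [← hB]; exact h8
      · exact h8
    obtain ⟨i, hi⟩ : ∃ i, R.Top ρ i w ≠ 0 := by
      by_contra hcon
      push Not at hcon
      exact h01 ⟨hcon 0, hcon 1⟩
    refine sim_of_ch hX hp 7 (1 - i) _ (R.Top ρ i w) (∑ u ∈ R.Xs1 i, χ (R.hh i u)) hi (top_good hw i) ?_ (h8' i)
    rw [sub_sub_cancel]
    exact top_top hw (hX i) hp
  · -- the value lies in both images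
    have hg : ∀ (n : ℕ) (i j : Fin 2), ∃ χ', Good R ρ χ' (RDat.alt (R.Top ρ i) (R.Top ρ j) n w) := by
      intro n
      induction n with
      | zero => intro i j; exact ⟨χ, hw⟩
      | succ n ih =>
        intro i j
        obtain ⟨χ', h⟩ := ih j i
        exact ⟨_, top_good h i⟩
    obtain ⟨χ₁, h1⟩ := hg 7 1 0
    obtain ⟨χ₂, h2⟩ := hg 7 0 1
    obtain ⟨χ₃, h3⟩ := hg 8 0 1
    have e1 : RDat.alt (R.Top ρ 0) (R.Top ρ 1) 8 w = R.Top ρ 0 (RDat.alt (R.Top ρ 1) (R.Top ρ 0) 7 w) := rfl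
    have e2 : RDat.alt (R.Top ρ 0) (R.Top ρ 1) 8 w = R.Top ρ 1 (RDat.alt (R.Top ρ 0) (R.Top ρ 1) 7 w) := by
      rw [hB]; rfl
    refine sim_of (i := 0) h8 h3 (a := ∑ u ∈ R.Xs1 0, χ₁ (R.hh 0 u)) (b := ∑ u ∈ R.Xs1 1, χ₂ (R.hh 1 u)) ?_ ?_
    · rw [e1]
      exact top_top h1 (hX 0) hp
    · rw [sub_zero, e2]
      exact top_top h2 (hX 1) hp

end

end Cfsg.Agent.H815.TU
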